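import Cfsg.Agent.MxE.C
import Cfsg.Agent.FusC.Mod

/-! Fusion systems over Heisenberg-like groups: a nontrivial normal subgroup forces a normal centric one (helper26). -/

set_option autoImplicit false

namespace Cfsg.Agent.Fus

open Subgroup Cfsg Cfsg.Agent.Loc Equiv
open Cfsg.FusionSystem (normalizerIn centralizerIn)
open scoped commutatorElement

universe u
variable {Ω : Type u} [Group Ω] {S A E Q R W Z : Subgroup Ω} {p : ℕ} {F : FusionSystem S} {g : Perm Ω} {x y : Ω}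

theorem hs_idx [Finite W] (f : Ω → Ω) (hf : ∀ a ∈ A, f a ∈ W) (h : ∀ a ∈ A, ∀ b ∈ A, (f a)⁻¹ * f b ∈ Z → a⁻¹ * b ∈ R) :
    R.relIndex A ≤ Z.relIndex W :=
  Nat.card_le_card_of_injective (fun c : A ⧸ R.subgroupOf A => ((⟨f c.out, hf _ c.out.2⟩ : W) : W ⧸ Z.subgroupOf W))
    fun c d e => by
      rw [← QuotientGroup.out_eq' c, ← QuotientGroup.out_eq' d]
      exact QuotientGroup.eq.2 (h _ c.out.2 _ d.out.2 ((QuotientGroup.eq (s := Z.subgroupOf W)).1 e))

variable [hp : Fact p.Prime] [Finite S]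

theorem Es.no_inv (e : Es F p E) (hZ : Z ≤ E) (h1 : ∀ s ∈ normalizerIn S E, ∀ x ∈ E, ⁅s, x⁆ ∈ Z)
    (h2 : Z ≤ centralizer (normalizerIn S E : Set Ω)) (h3 : Nat.card Z ≤ E.relIndex (normalizerIn S E)) (n : ℕ) :
    ∀ R ≤ Z, Nat.card Z - Nat.card R = n → R ≠ ⊥ → ∀ g, Far F E g → ¬ Maps g R R := by
  have := e.finite
  have := finite_of_le hZ
  have tZ : ∀ s ∈ normalizerIn S E, Tv (cr E s) Z E := fun s hs => tv_cr_of_comm hs.2 le_rfl (h1 s hs)
  have fZ : ∀ s ∈ normalizerIn S E, ∀ B, Tv (cr E s) B Z := fun s hs B => tv_cr_of_comm hs.2 hZ fun c hc => by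
    rw [commutatorElement_eq_one_iff_mul_comm.2 (h2 hc s hs)]; exact one_mem _
  induction n using Nat.strong_induction_on with
  | _ n ih =>
  intro R hR hn h0 g hg m
  have := finite_of_le hR
  have G := homOn_of_AutF hg.1
  by_cases hc : Z ≤ R
  · obtain rfl := le_antisymm hR hc
    obtain ⟨t, ht, ht'⟩ := e.exists_t
    have hc := maps_of_AutF (e.cr_mem ht)
    exact e.far_chain hg ht ht' ht ht' hZ ((tZ t ht).maps (homOn_of_AutF (e.cr_mem ht)) hZ)
      ((tZ t ht).conj G le_rfl hc m (maps_of_AutF hg.1))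
      ((fZ t ht _).conj G hZ hc (AutOn_le_Stab_Phi E (AutF_le_AutOn F E hg.1)) m)
  obtain ⟨x, hx, hx'⟩ := SetLike.not_le_iff_exists.1 hc
  have hy := (maps_of_AutF hg.1).inv_mem (hZ hx)
  have hc' : ∀ s ∈ normalizerIn S E, ⁅g⁻¹ x, s⁆ ∈ Z := fun s hs => comm_mem_symm (h1 s hs _ hy)
  obtain ⟨s, hs, hs1, hs'⟩ : ∃ s ∈ normalizerIn S E, ⁅g⁻¹ x, s⁆ ∈ R ∧ s ∉ E := by
    by_contra! k
    have H := homOn_comm fun s hs => h2 (hc' s hs)
    have k1 := h3.trans (hs_idx _ hc' fun a ha b hb l => k _ (mul_mem (inv_mem ha) hb) (H.map_inv_mul ha hb ▸ l))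
    have k2 := Solv.card_mul_relIndex hR
    have k3 : 1 < Nat.card R := (one_lt_card_iff_ne_bot R).2 h0
    have k4 : 0 < Nat.card Z := Nat.card_pos
    nlinarith
  have hf := e.far_conj hg.inv hs hs'
  rw [inv_inv] at hf
  have T := homOn_of_AutF hf.1
  have hR' : R ⊔ zpowers x ≤ Z := sup_le hR (zpowers_le.2 hx)
  have := finite_of_le hR'
  have nR : Z ≤ Subgroup.normalizer (R : Set Ω) :=
    le_normalizer_of_le_centralizer (h2.trans (centralizer_anti (hR.trans (hZ.trans (le_NS e.le)))))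
  have t1 : Tv (g * cr E s * g⁻¹) R R := ((fZ s hs R).mono le_rfl hR).conj G (hR.trans hZ) (maps_of_AutF (e.cr_mem hs)) m m
  have t2 : x⁻¹ * (g * cr E s * g⁻¹) x ∈ R := by
    have k := m.mem (show (g⁻¹ x)⁻¹ * cr E s (g⁻¹ x) ∈ R by
      rw [cr_apply hs.2 hy, show (g⁻¹ x)⁻¹ * (s * g⁻¹ x * s⁻¹) = (g⁻¹ x)⁻¹ * ⁅g⁻¹ x, s⁆⁻¹ * g⁻¹ x by
        simp only [commutatorElement_def]; group, mul_assoc, ← h2 (inv_mem (hc' s hs)) _ (le_NS e.le hy),
        inv_mul_cancel_left]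
      exact inv_mem hs1)
    rw [G.map_inv_mul hy ((maps_of_AutF (e.cr_mem hs)).mem hy)] at k
    simpa using k
  have lt : R < R ⊔ zpowers x := left_lt_sup.2 fun k => hx' (k (mem_zpowers x))
  have l1 := card_lt_card lt
  have l2 := card_le_card hR'
  exact ih _ (by omega) _ hR' rfl (lt.trans_le' bot_le).ne' _ hf (((t1.sup (Tv.zpowers t2 (T.mono (zpowers_le.2 (hZ hx)))
    (nR hx)) (T.mono (hR'.trans hZ)) ((zpowers_le.2 hx).trans nR) (hR.trans nR)).mono le_sup_left le_rfl).maps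
      (T.mono (hR'.trans hZ)) le_rfl)

/-- class two, abelian centralisers of noncentral elements of index at least `|Z(S)|` -/
structure Hz (S : Subgroup Ω) : Prop where
  der : ∀ x ∈ S, ∀ y ∈ S, ⁅x, y⁆ ∈ centralizerIn S S
  ab : ∀ x ∈ S, x ∉ centralizerIn S S → ∀ y ∈ S, ∀ z ∈ S, x * y = y * x → x * z = z * x → y * z = z * y
  idx : ∀ x ∈ S, x ∉ centralizerIn S S → Nat.card (centralizerIn S S) ≤ (centralizer ({x} : Set Ω)).relIndex S

theorem Es.hz (e : Es F p E) (h : Hz S) : centralizerIn S S < E ∧ normalizerIn S E = S ∧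
    ∀ x ∈ E, x ∉ centralizerIn S S → centralizer ({x} : Set Ω) ⊓ S = E := by
  have := e.finite
  have hZ : centralizerIn S S ≤ E := fun y hy => e.CS_le ⟨hy.1, centralizer_anti e.le hy.2⟩
  have hN : normalizerIn S E = S := le_antisymm (NS_le _ _) (le_inf le_rfl fun s hs =>
    mem_normalizer_of_comm fun c hc => hZ (h.der s hs c (e.le hc)))
  obtain ⟨t, ht, ht'⟩ := e.exists_t
  obtain ⟨x, hx, hx'⟩ : ∃ x ∈ centralizerIn E E, x ∉ centralizerIn S S := by
    by_contra! k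
    exact ht' (e.chain2 ht (Fus.CS_le E E) ((AutF_le_AutOn F E).trans (chr_CS E).stab)
      (tv_cr_of_comm ht.2 le_rfl fun c hc => have l := h.der t ht.1 c (e.le hc)
        ⟨hZ l, centralizer_anti e.le l.2⟩) (tv_cr_of_comm ht.2 (Fus.CS_le E E) fun c hc => by
          rw [commutatorElement_eq_one_iff_mul_comm.2 ((k c hc).2 t ht.1)]; exact one_mem _))
  have ab : ∀ y ∈ E, ∀ z ∈ E, y * z = z * y := fun y hy z hz =>
    h.ab x (e.le hx.1) hx' y (e.le hy) z (e.le hz) (hx.2 y hy).symm (hx.2 z hz).symm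
  refine ⟨lt_of_le_of_ne hZ fun k => hx' (k.ge hx.1), hN, fun y hy hy' => le_antisymm (fun z hz => e.CS_le ⟨hz.2,
    fun w hw => h.ab y (e.le hy) hy' w (e.le hw) z hz.2 (ab y hy w hw) (mem_centralizer_singleton_iff.1 hz.1).symm⟩)
      fun z hz => ⟨mem_centralizer_singleton_iff.2 (ab z hz y hy), e.le hz⟩⟩

theorem Sat.hz (hF : Sat F p) (h : Hz S) (h0 : F.core ≠ ⊥) : F.IsRealizable p := by
  by_cases hE : ∃ E, F.IsEssential p E
  swap
  · exact hF.realizable_of_normal' (hF.normal_of_base fun P hP => by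
      obtain rfl := hP.resolve_right fun k => hE ⟨P, k⟩
      exact ⟨le_rfl, fun a ha => maps_of_AutF ha⟩)
  obtain ⟨E, hE⟩ := hE
  have e : Es F p E := ⟨hF, hE⟩
  have hQ := normal_core F
  have le : ∀ P, Es F p P → F.core ≤ P := fun P k => normal_le_cr hF.pg hQ k.ess.1 (hF.radical_of_ess k.ess)
  obtain ⟨e1, e2, e3⟩ := e.hz h
  have uq : ∀ P, Es F p P → P = E := fun P k => by_contra fun ne => by
    obtain ⟨x, hx, hx'⟩ := SetLike.exists_of_lt e1
    obtain ⟨g, hg⟩ := e.exists_far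
    refine e.no_inv e1.le (fun s hs y hy => h.der s hs.1 y (e.le hy)) (e2.symm ▸ CS_le_centralizer S S) ?_ _ F.core
      (fun y hy => by_contra fun l => ne (((k.hz h).2.2 y (le P k hy) l).symm.trans (e3 y (le E e hy) l))) rfl h0 g hg
      (sc_maps (sc_of_normal hQ) (iso_of_AutF e.le hg.1).mor (le E e))
    rw [e2, ← e3 x hx hx', inf_relIndex_right]
    exact h.idx x (e.le hx) hx'
  refine hF.realizable_of_normal (hF.normal_of_base fun P hP => ?_) hE.1
  rcases hP with rfl | hP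
  · refine ⟨e.le, fun a ha => ?_⟩
    have m := ((homOn_of_AutF ha).mono e.le).maps_img
    rwa [uq _ (e.iso ((iso_of_AutF le_rfl ha).mor.mono (NS_le _ _)) m)] at m
  · rw [uq P ⟨hF, hP⟩]
    exact ⟨le_rfl, fun a ha => maps_of_AutF ha⟩

end Cfsg.Agent.Fus
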