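import Cfsg.Agent.Hs3.A
import Cfsg.Agent.Mult.L34a
import Cfsg.Agent.Classical.SLCard

/-! Sylow `p`-subgroups of `SL₃(K)` in the defining characteristic are Heisenberg-like (helper26). -/

set_option autoImplicit false

namespace Cfsg.Agent.Fus

open Subgroup Cfsg Cfsg.Agent.Loc Cfsg.Agent.Mult Matrix
open Cfsg.FusionSystem (normalizerIn centralizerIn)
open scoped commutatorElement MatrixGroups

variable {Ω : Type*} [Group Ω] {S : Subgroup Ω} {K : Type*} [Field K]

theorem hs_syl [Fintype K] (p : ℕ) [hp : Fact p.Prime] [CharP K p] (T : Sylow p SL(3, K)) :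
    Nonempty ((T : Subgroup SL(3, K)) ≃* l3U K) := by
  obtain ⟨n, -, hF⟩ := FiniteField.card K p
  have hc : Nat.card (l3U K) = p ^ (n * 3 : ℕ) := by rw [l3U_card, hF, pow_mul]
  have h1 : 1 < p ^ (n : ℕ) := hF ▸ Fintype.one_lt_card
  obtain ⟨t, ht⟩ : ∃ t, p ^ (n : ℕ) = t + 1 := ⟨p ^ (n : ℕ) - 1, by omega⟩
  have h2 : ((t : ℕ) : ZMod p) = -1 := by
    have : ((t + 1 : ℕ) : ZMod p) = 0 := (ZMod.natCast_eq_zero_iff _ _).2 (ht ▸ dvd_pow_self p n.ne_zero)
    push_cast at this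
    linear_combination this
  have hS : Nat.card SL(3, K) = p ^ (n * 3 : ℕ) * ((t ^ 2 + 3 * t + 3) * t * (t * (t + 2))) := by
    have h := Classical.card_SL_mul (F := K) 3 (by simp)
    simp only [Fin.prod_univ_three, Nat.card_eq_fintype_card (α := K), hF, ht] at h
    have t0 : 0 < t := by omega
    apply Nat.eq_of_mul_eq_mul_left t0
    rw [pow_mul, ht]
    simp only [Nat.add_sub_cancel, Fin.val_zero, Fin.val_one, Fin.val_two] at h
    rw [h, show (t + 1) ^ 3 = (t + 1) ^ 0 + (t ^ 2 + 3 * t + 3) * t by ring, Nat.add_sub_cancel_left,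
      show (t + 1) ^ 0 + (t ^ 2 + 3 * t + 3) * t = (t + 1) ^ 1 + (t + 1) * (t * (t + 2)) by ring, Nat.add_sub_cancel_left,
      show (t + 1) ^ 1 + (t + 1) * (t * (t + 2)) = (t + 1) ^ 2 + (t + 1) ^ 2 * t by ring, Nat.add_sub_cancel_left]
    ring
  have hodd : ¬ p ∣ (l3U K).index := by
    have := (l3U K).card_mul_index
    rw [hc, hS] at this
    rw [Nat.eq_of_mul_eq_mul_left (by have := hp.out.pos; positivity) this, ← ZMod.natCast_eq_zero_iff]
    push_cast
    rw [h2]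
    norm_num
  exact ⟨Sylow.equiv T ((IsPGroup.of_card hc).toSylow hodd)⟩

theorem hz_of [Finite S] (e : S ≃* l3U K) : Hz S := by
  let φ : K → K → K → Ω := fun a b c => (e.symm ⟨l3u a b c, _, _, _, rfl⟩ : S)
  have mem : ∀ a b c, φ a b c ∈ S := fun a b c => (e.symm _).2
  have sur : ∀ x ∈ S, ∃ a b c, φ a b c = x := fun x hx => by
    obtain ⟨a, b, c, k⟩ := (e ⟨x, hx⟩).2
    exact ⟨a, b, c, congrArg Subtype.val ((e.symm_apply_eq (y := ⟨x, hx⟩)).2 (Subtype.ext k.symm))⟩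
  have mul : ∀ a b c a' b' c', φ a b c * φ a' b' c' = φ (a + a') (b + b') (c + c' + a * b') := fun a b c a' b' c' =>
    congrArg Subtype.val ((map_mul e.symm _ _).symm.trans (congrArg e.symm (Subtype.ext (l3u_mul ..))))
  have inj : ∀ {a b c a' b' c'}, φ a b c = φ a' b' c' → a = a' ∧ b = b' ∧ c = c' := fun k =>
    l3u_inj (congrArg Subtype.val (e.symm.injective (Subtype.ext k)))
  have cm : ∀ a b c a' b' c', φ a b c * φ a' b' c' = φ a' b' c' * φ a b c ↔ a * b' = a' * b := fun a b c a' b' c' => by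
    rw [mul, mul]
    exact ⟨fun k => by linear_combination (inj k).2.2, fun k => by rw [k, add_comm a, add_comm b, add_comm c]⟩
  have br : ∀ a b c a' b' c', ⁅φ a b c, φ a' b' c'⁆ = φ 0 0 (a * b' - a' * b) := fun a b c a' b' c' => by
    rw [commutatorElement_def, mul_inv_eq_iff_eq_mul, mul_inv_eq_iff_eq_mul, mul, mul, mul]
    congr 1 <;> ring
  have zz : ∀ a b c, φ a b c ∈ centralizerIn S S ↔ a = 0 ∧ b = 0 := fun a b c =>
    ⟨fun k => ⟨by simpa using ((cm _ _ _ _ _ _).1 (k.2 _ (mem 0 1 0))).symm, by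
      simpa using (cm _ _ _ _ _ _).1 (k.2 _ (mem 1 0 0))⟩, fun k => ⟨mem _ _ _, fun y hy => by
        obtain ⟨a', b', c', rfl⟩ := sur y hy
        rw [cm, k.1, k.2, mul_zero, zero_mul]⟩⟩
  refine ⟨fun x hx y hy => ?_, fun x hx hx' y hy z hz h1 h2 => ?_, fun x hx hx' => ?_⟩
  · obtain ⟨a, b, c, rfl⟩ := sur x hx
    obtain ⟨a', b', c', rfl⟩ := sur y hy
    rw [br, zz]; exact ⟨rfl, rfl⟩
  · obtain ⟨a, b, c, rfl⟩ := sur x hx
    obtain ⟨a₁, b₁, c₁, rfl⟩ := sur y hy
    obtain ⟨a₂, b₂, c₂, rfl⟩ := sur z hz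
    rw [cm] at h1 h2 ⊢
    rw [zz, not_and_or] at hx'
    rcases hx' with k | k
    · exact mul_left_cancel₀ k (by linear_combination a₁ * h2 - a₂ * h1)
    · exact mul_left_cancel₀ k (by linear_combination b₁ * h2 - b₂ * h1)
  · have onto : ∀ z, ∃ s ∈ S, z ∈ centralizerIn S S → ⁅x, s⁆ = z := fun z => by
      by_cases hz : z ∈ centralizerIn S S
      swap
      · exact ⟨1, one_mem _, fun k => absurd k hz⟩
      obtain ⟨a, b, c, rfl⟩ := sur x hx
      obtain ⟨a', b', c', rfl⟩ := sur z hz.1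
      obtain ⟨rfl, rfl⟩ := (zz _ _ _).1 hz
      rw [zz, not_and_or] at hx'
      rcases hx' with k | k
      · exact ⟨φ 0 (c' / a) 0, mem _ _ _, fun _ => by rw [br]; congr 1; field_simp; ring⟩
      · exact ⟨φ (-c' / b) 0 0, mem _ _ _, fun _ => by rw [br]; congr 1; field_simp; ring⟩
    choose f f1 f2 using onto
    rw [← relIndex_bot_left]
    refine hs_idx f (fun a _ => f1 a) fun a ha b hb k => ?_
    have k := mem_centralizer_singleton_iff.1 k
    rw [mem_bot, inv_mul_eq_one, ← f2 a ha, ← f2 b hb, show f b = f a * ((f a)⁻¹ * f b) by group]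
    generalize (f a)⁻¹ * f b = c at k
    simp only [commutatorElement_def]
    rw [← mul_assoc x, mul_assoc _ c, show c * x⁻¹ = x⁻¹ * c from (Commute.inv_right k)]
    group

end Cfsg.Agent.Fus
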